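import Groth.Agent.Etbc.H195.LocAcycOfBC
import Groth.Agent.Etcore.FieldExt82b
import Groth.Agent.Etrest.SHPoint
import Mathlib.Algebra.CharP.Defs
import Mathlib.FieldTheory.IsSepClosed

/-!
# Field extensions are universally locally acyclic

* `isULocAcyclic_fieldExt` : `Spec K ⟶ Spec k` is universally locally acyclic for the primes different from
  the characteristic;
* `inv_fieldExt` : `k ⊆ K` separably closed, `V` any `k`-scheme, `F` an `L`-torsion sheaf on `V`:
  `H^q(V, F) → H^q(V_K, F_K)` is bijective for all `q`;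
* `isUAcyclicN_fieldExt`.
-/

set_option autoImplicit false
universe u

open CategoryTheory CategoryTheory.Limits AlgebraicGeometry Opposite IsLocalRing

namespace Groth.Agent.Etbc.H195.FieldExtAcyc

open EtCoh Groth.Agent.EtpbcB.BCCalc Groth.Agent.Etrest.StrictLoc Groth.Agent.Ega2.LACRB
  Groth.Agent.Sga1.UlaSL Groth.Agent.Etcore.FieldExt82 LocAcycOfBC

/-- An integer all of whose prime factors differ from the characteristic is invertible. -/
theorem natCast_ne_zero_of_primesIn (k : Type u) [Field k] {m : ℕ}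
    (hm : EtAcyc.PrimesIn {ℓ | ℓ.Prime ∧ ℓ ≠ ringChar k} m) : (m : k) ≠ 0 := by
  intro h0
  have h1 : ringChar k ∣ m := (ringChar.spec k m).1 h0
  rcases CharP.char_is_prime_or_zero k (ringChar k) with hp | hp
  · exact (hm.2 _ hp h1).2 rfl
  · rw [hp, zero_dvd_iff] at h1
    exact hm.1.ne' h1

/-- An `L`-torsion sheaf, `L` the primes different from the characteristic of `k`, has torsion
invertible on `Spec k`. -/
theorem isTorsionInvertibleOn_of_isLTorsion (k : Type u) [Field k] {X : Scheme.{u}} {F : Ab X}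
    (hF : EtAcyc.IsLTorsion {ℓ | ℓ.Prime ∧ ℓ ≠ ringChar k} F) :
    EtPBC.IsTorsionInvertibleOn (Spec (CommRingCat.of k)) F := by
  intro U s x
  obtain ⟨V, g, m, hv, hm, h0⟩ := hF U s x
  refine ⟨V, g, m, hv, ?_, h0⟩
  have h1 : IsUnit (m : k) := (natCast_ne_zero_of_primesIn k hm).isUnit
  have h2 := h1.map (Scheme.ΓSpecIso (CommRingCat.of k)).inv.hom
  rwa [map_natCast] at h2

section

variable {k K : Type u} [Field k] [Field K] (φ : k →+* K)

/-- Base change for `L`-torsion sheaves along base changes of `Spec K ⟶ Spec k`. -/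
theorem bcAt_of_isPullback {S S' T : Scheme.{u}} {p : S' ⟶ S} {b' : S' ⟶ Spec (CommRingCat.of K)}
    {b : S ⟶ Spec (CommRingCat.of k)} (hS : IsPullback p b' b (spm φ))
    (g : T ⟶ S) [QuasiCompact g] [QuasiSeparated g] (F : Ab T)
    (hF : EtAcyc.IsLTorsion {ℓ | ℓ.Prime ∧ ℓ ≠ ringChar k} F) : BCAt g F p :=
  bcAt_of_fieldExt φ b g p b' hS F (isTorsionInvertibleOn_of_isLTorsion k hF)

/-- Field extensions are universally locally acyclic. -/
theorem isULocAcyclic_fieldExt :
    EtAcyc.IsULocAcyclic (spm φ) {ℓ | ℓ.Prime ∧ ℓ ≠ ringChar k} := by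
  intro n X₁ Y₁ g₁ b' b hP
  refine isLocAcyclic_of_bcAt g₁ _ ?_ n
  intro A _ _ σ hσ _ X' p f hf C _ k' F hF
  exact bcAt_of_isPullback φ (hf.paste_horiz hP).flip k' F hF

variable [IsSepClosed k] [IsSepClosed K]

/-- Invariance of étale cohomology under extensions of separably closed fields, for any scheme. -/
theorem inv_fieldExt {V : Scheme.{u}} (v : V ⟶ Spec (CommRingCat.of k)) (F : Ab V)
    (hF : EtAcyc.IsLTorsion {ℓ | ℓ.Prime ∧ ℓ ≠ ringChar k} F) :
    Inv (pullback.fst v (spm φ)) F := by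
  have hk := Groth.Agent.Etrest.SHPoint.isSepClosed_residueField k
  have hK := Groth.Agent.Etrest.SHPoint.isSepClosed_residueField K
  have hφ : IsLocalHom φ := inferInstance
  refine inv_of_bcAt (f := spm φ) (isStrictLoc_id K) (β := φ) (Category.id_comp _).symm v F ?_
  intro C _ _ σ _
  exact bcAt_of_isPullback φ (b := 𝟙 _) (b' := 𝟙 _) (IsPullback.of_vert_isIso ⟨by simp⟩) _ _
    (isLTorsion_pull σ hF)

theorem inv_of_isPullback {V V' : Scheme.{u}} {p : V' ⟶ V} {v : V ⟶ Spec (CommRingCat.of k)}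
    {v' : V' ⟶ Spec (CommRingCat.of K)} (h : IsPullback p v' v (spm φ)) (F : Ab V)
    (hF : EtAcyc.IsLTorsion {ℓ | ℓ.Prime ∧ ℓ ≠ ringChar k} F) : Inv p F := by
  have h1 := inv_fieldExt φ v F hF
  have h2 := (Inv.of_isIso h.isoPullback.hom ((pull (pullback.fst v (spm φ))).obj F)).comp h1
  exact h2.congr (h.isoPullback_hom_fst)

/-- Between separably closed fields, the morphism is universally `n`-acyclic. -/
theorem isUAcyclicN_fieldExt (n : ℕ) :
    EtAcyc.IsUAcyclicN (spm φ) {ℓ | ℓ.Prime ∧ ℓ ≠ ringChar k} n := by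
  intro X₁ Y₁ g₁ b' b hP V F hF _
  have hsq : IsPullback (EtAcyc.prj g₁ V) (pullback.snd V.hom g₁ ≫ b') (V.hom ≫ b) (spm φ) :=
    (IsPullback.of_hasPullback V.hom g₁).paste_vert hP.flip
  have key : ∀ q : ℕ, Function.Bijective (EtCore.Hpull (EtAcyc.prj g₁ V) F q) := fun q =>
    (Etcore.HpullCalc.bijective_Hpull_iff _ F q).2 (inv_of_isPullback φ hsq F hF q)
  exact ⟨fun q _ => key q, (key (n + 1)).1⟩

end

end Groth.Agent.Etbc.H195.FieldExtAcyc
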