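import Groth.Prelude.Def_EtAcyc
import Groth.Agent.Ega2.LACLoc
import Groth.Agent.Etcore.FieldExt82
import Groth.Agent.Etcore.Torsion
import Groth.Agent.Etcore.HpullEq
import Groth.Agent.Sga4h.StalkAcyc
import Groth.Agent.EtpbcB.StrictLocStar
import Groth.Agent.EtpbcB.GeomPointIndep

/-!
# Base change implies local acyclicity

`A` strictly henselian local, `f : X ⟶ Spec A`, `τ : Spec B ⟶ X` a strict localization at a point over the
closed point, `β : A → B` the induced local homomorphism.  `BCAt g F f` says that the higher direct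
images `R^q g_* F` (`g : T ⟶ Spec A` qcqs) commute with base change along `f`.

* `bijective_unit_of_bcAt`, `nonempty_H_equiv_of_bcAt`: then `H^q(T, F) ≅ H^q(T ×_A B, F)`, canonically in
  degree `0`;
* `inv_of_bcAt`: for `V` étale over `Spec A` and `F` on `V` such that base change holds for all strict
  localizations of `V`, all pullback maps `H^q(V, F) → H^q(V ×_A B, F)` are bijective;
* `isAcyclicN_of_bcAt`: local acyclicity.
-/

set_option autoImplicit false
universe u

open CategoryTheory CategoryTheory.Limits AlgebraicGeometry Opposite IsLocalRing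

namespace Groth.Agent.Etbc.H195.LocAcycOfBC

open EtCoh Groth.Agent.EtpbcB Groth.Agent.EtpbcB.BCIso Groth.Agent.EtpbcB.BCCalc
  Groth.Agent.Etrest.StrictLoc Groth.Agent.Ega2.LACRB Groth.Agent.Ega2.LACBc Groth.Agent.Ega2.LACLoc
  Groth.Agent.Sga1.UlaSL Groth.Agent.Etcore.FieldExt82

/-- The unit of a local homomorphism of strictly henselian local rings is bijective on global
sections. -/
theorem UB_spm {A B : Type u} [CommRing A] [HenselianLocalRing A] [IsSepClosed (ResidueField A)]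
    [CommRing B] [HenselianLocalRing B] [IsSepClosed (ResidueField B)] (β : A →+* B)
    [IsLocalHom β] : UB (spm β) := by
  intro G
  have h1 : UB (resPt B) := StrictLocStar.UB_closed (resPt B) (resPt_closedPoint B _)
  have h2 : UB (resPt B ≫ spm β) := StrictLocStar.UB_closed (resPt B ≫ spm β) (by
    rw [Scheme.Hom.comp_apply, resPt_closedPoint]
    exact closedPoint_map β)
  have h3 := h2 G
  rw [unit_pullComp] at h3
  have h4 : BijAt ((push (spm β)).map ((pullPushAdj (resPt B)).unit.app ((pull (spm β)).obj G)) ≫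
      (push (spm β)).map ((push (resPt B)).map ((EtpbcB.BCCalc.pullComp (spm β) (resPt B)).hom.app G)) ≫
        (pushComp (spm β) (resPt B)).hom.app ((pull (resPt B ≫ spm β)).obj G)) (top _) := by
    refine bijAt_comp _ _ _ ?_ (bijAt_comp _ _ _ (bijAt_of_isIso _ _) (bijAt_of_isIso _ _))
    rw [bijAt_push_top]
    exact h1 _
  rw [bijAt_iff_isIso] at h3 h4 ⊢
  exact @IsIso.of_isIso_comp_right _ _ _ _ _ _ _ h4 h3

section Base

variable {A : Type u} [CommRing A] [HenselianLocalRing A] [IsSepClosed (ResidueField A)]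
  {X : Scheme.{u}} {f : X ⟶ Spec (CommRingCat.of A)}
  {B : Type u} [CommRing B] [IsLocalRing B] {τ : Spec (CommRingCat.of B) ⟶ X}
  (hτ : IsStrictLoc τ) {β : A →+* B} [IsLocalHom β] (hβ : spm β = τ ≫ f)
  {T P : Scheme.{u}} {g : T ⟶ Spec (CommRingCat.of A)} [QuasiCompact g] [QuasiSeparated g]
  {b : P ⟶ T} {h : P ⟶ Spec (CommRingCat.of B)} (hP : IsPullback b h g (spm β)) {F : Ab T}
  (hbc : BCAt g F f)

omit [HenselianLocalRing A] [IsSepClosed (ResidueField A)] [IsLocalHom β] in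
include hτ hβ hbc in
/-- Degree zero base change along `Spec B ⟶ Spec A`. -/
theorem isIso_baseChange0_spm : IsIso (baseChange0 g (spm β) h b hP.w F) := by
  have key : ∀ (k : Spec (CommRingCat.of B) ⟶ Spec (CommRingCat.of A)) (_ : k = τ ≫ f)
      (hP : IsPullback b h g k), IsIso (baseChange0 g k h b hP.w F) := by
    rintro k rfl hP
    have sq : IsPullback (pullback.fst g f) (pullback.snd g f) g f := IsPullback.of_hasPullback g f
    obtain ⟨m, hm1, hm2⟩ : ∃ m : P ⟶ pullback g f, m ≫ pullback.fst g f = b ∧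
        m ≫ pullback.snd g f = h ≫ τ :=
      ⟨pullback.lift b (h ≫ τ) (by rw [hP.w, Category.assoc]), pullback.lift_fst _ _ _,
        pullback.lift_snd _ _ _⟩
    have sq' : IsPullback m h (pullback.snd g f) τ := by
      refine IsPullback.of_right ?_ hm2 sq
      rw [hm1]
      exact hP
    subst hm1
    have i1 := (hbc _ _ sq).2
    have i2 : IsIso (baseChange0 (pullback.snd g f) τ h m sq'.w ((pull (pullback.fst g f)).obj F)) :=
      isIso_baseChange0_of_isStrictLoc hτ sq' _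
    exact isIso_hpaste sq.w sq'.w hP.w F inferInstance i2
  exact key _ hβ hP

include hτ hβ hP hbc in
/-- `F(T) → (b⁻¹F)(T ×_A B)` is bijective. -/
theorem bijAt_unit_of_bcAt : BijAt ((pullPushAdj b).unit.app F) (top T) := by
  have := hτ.henselian
  have := hτ.sepClosed
  have i := isIso_baseChange0_spm hτ hβ hP hbc
  have h1 := unit_baseChange0 hP.w F
  rw [← bijAt_push_top g]
  have h2 : BijAt ((pullPushAdj (spm β)).unit.app ((push g).obj F) ≫
      (push (spm β)).map (baseChange0 g (spm β) h b hP.w F)) (top _) :=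
    bijAt_comp _ _ _ (UB_spm β _) (bijAt_of_isIso _ _)
  rw [h1] at h2
  have h3 : BijAt ((sq hP.w).hom.app ((pull b).obj F)) (top _) := bijAt_of_isIso _ _
  rw [bijAt_iff_isIso] at h2 h3 ⊢
  exact @IsIso.of_isIso_comp_right _ _ _ _ _ _ _ h3 h2

include hτ hβ hP hbc in
/-- `H^q(T, F) ≅ H^q(T ×_A B, F)`. -/
theorem nonempty_H_equiv_of_bcAt (q : ℕ) :
    Nonempty (EtCoh.H T F q ≃+ EtCoh.H P ((pull b).obj F) q) := by
  have := hτ.henselian
  have := hτ.sepClosed
  let b₁ := pullback.fst g f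
  let h₁ := pullback.snd g f
  have sq : IsPullback b₁ h₁ g f := IsPullback.of_hasPullback g f
  obtain ⟨e⟩ := (hbc _ _ sq).1 q
  have hid := isStrictLoc_id A
  obtain ⟨i1⟩ := Groth.Agent.Sga4h.StalkAcyc.nonempty_stalk_iso g F hid q
  obtain ⟨i2⟩ := Groth.Agent.Sga4h.StalkAcyc.nonempty_stalk_iso h₁ ((pull b₁).obj F) hτ q
  have hpt : (resPt A ≫ 𝟙 (Spec (CommRingCat.of A))) default = ((resPt B ≫ τ) ≫ f) default := by
    rw [Category.comp_id, Category.assoc, ← hβ, Scheme.Hom.comp_apply, resPt_closedPoint,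
      resPt_closedPoint]
    exact (closedPoint_map β).symm
  obtain ⟨j⟩ := GeomPointIndep.nonempty_stalkIso (resPt A ≫ 𝟙 (Spec (CommRingCat.of A)))
    ((resPt B ≫ τ) ≫ f) hpt
  have k1 : AddCommGrpCat.of (EtCoh.H (pullback g (𝟙 _)) ((pull (pullback.fst g (𝟙 _))).obj F) q) ≅
      AddCommGrpCat.of (EtCoh.H (pullback h₁ τ) ((pull (pullback.fst h₁ τ)).obj ((pull b₁).obj F)) q) :=
    i1.symm ≪≫ j.app ((Rpush g q).obj F) ≪≫
      (Etbase.StalkPull.stalkPullIso f (resPt B ≫ τ)).app ((Rpush g q).obj F) ≪≫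
      (stalk (resPt B ≫ τ)).mapIso e ≪≫ i2
  have k2 := IsoTransport.HIso (pullback.fst g (𝟙 (Spec (CommRingCat.of A)))) F q
  have k3 := IsoTransport.HPullComp (pullback.fst h₁ τ) b₁ (pullback.fst h₁ τ ≫ b₁) rfl F q
  have sq2 : IsPullback (pullback.fst h₁ τ ≫ b₁) (pullback.snd h₁ τ) g (spm β) := by
    rw [hβ]
    exact (IsPullback.of_hasPullback h₁ τ).paste_horiz sq
  have k4 := IsoTransport.HIsoPullback sq2 hP F q
  exact ⟨k2.symm.trans (k1.addCommGroupIsoToAddEquiv.trans (k3.symm.trans k4))⟩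

end Base

section Etale

variable {A : Type u} [CommRing A] [HenselianLocalRing A] [IsSepClosed (ResidueField A)]
  {X : Scheme.{u}} {f : X ⟶ Spec (CommRingCat.of A)}
  {B : Type u} [CommRing B] [IsLocalRing B] {τ : Spec (CommRingCat.of B) ⟶ X}
  (hτ : IsStrictLoc τ) {β : A →+* B} [IsLocalHom β] (hβ : spm β = τ ≫ f)

include hτ hβ in
/-- `T` strictly local over `A`. -/
theorem inv_of_bcAt_strictLocal {C : Type u} [CommRing C] [HenselianLocalRing C]
    [IsSepClosed (ResidueField C)] {P : Scheme.{u}}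
    {g : Spec (CommRingCat.of C) ⟶ Spec (CommRingCat.of A)}
    {b : P ⟶ Spec (CommRingCat.of C)} {h : P ⟶ Spec (CommRingCat.of B)}
    (hP : IsPullback b h g (spm β)) {F : Ab (Spec (CommRingCat.of C))} (hbc : BCAt g F f) :
    Inv b F := by
  intro q
  rcases Nat.eq_zero_or_pos q with rfl | hq
  · exact (Etcore.HpullCalc.bijective_hp_zero_iff _ _).2
      ((Etcore.HpullCalc.bijective_unitSec_iff _ _).2 (bijAt_unit_of_bcAt hτ hβ hP hbc))
  · have h1 : Subsingleton (EtCoh.H (Spec (CommRingCat.of C)) F q) :=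
      Groth.Agent.S0073.result C F q hq
    obtain ⟨e⟩ := nonempty_H_equiv_of_bcAt hτ hβ hP hbc q
    have h2 : Subsingleton (EtCoh.H P ((pull b).obj F) q) := e.toEquiv.subsingleton_congr.1 h1
    exact ⟨fun x y _ => @Subsingleton.elim _ h1 x y, fun y => ⟨0, @Subsingleton.elim _ h2 _ _⟩⟩

include hτ hβ in
/-- `F` a sheaf on any scheme `V` over `Spec A`, satisfying base change at all strict localizations
of `V`. -/
theorem inv_of_bcAt {V : Scheme.{u}} (v : V ⟶ Spec (CommRingCat.of A)) (F : Ab V)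
    (hbc : ∀ (C : Type u) [CommRing C] [IsLocalRing C] (σ : Spec (CommRingCat.of C) ⟶ V),
      IsStrictLoc σ → BCAt (σ ≫ v) ((pull σ).obj F) f) :
    Inv (pullback.fst v (spm β)) F := by
  refine inv_of_locRB fun z => ?_
  obtain ⟨C, _, _, σ, hσ, hz⟩ := exists_isStrictLoc V z
  have := hσ.henselian
  have := hσ.sepClosed
  refine ⟨C, inferInstance, inferInstance, σ, hσ, hz, ?_⟩
  have sq : IsPullback (pullback.snd (pullback.fst v (spm β)) σ)
      (pullback.fst (pullback.fst v (spm β)) σ ≫ pullback.snd v (spm β)) (σ ≫ v) (spm β) :=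
    ((IsPullback.of_hasPullback (pullback.fst v (spm β)) σ).flip.paste_vert
      (IsPullback.of_hasPullback v (spm β)))
  exact inv_of_bcAt_strictLocal hτ hβ sq (hbc C σ hσ)

end Etale

/-- `IsLTorsion` in terms of stalks. -/
theorem isLTorsion_iff_stalk {X : Scheme.{u}} (L : Set ℕ) (F : Ab X) :
    EtAcyc.IsLTorsion L F ↔ ∀ (Ω : Type u) [Field Ω] [IsSepClosed Ω]
      (ξ : Spec (CommRingCat.of Ω) ⟶ X) (t : (EtCoh.stalk ξ).obj F),
        ∃ n : ℕ, EtAcyc.PrimesIn L n ∧ n • t = 0 :=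
  Etcore.Torsion.local_iff_stalk (fun n => EtAcyc.PrimesIn L n) F

theorem isLTorsion_pull {X Y : Scheme.{u}} {L : Set ℕ} (f : X ⟶ Y) {F : Ab Y}
    (hF : EtAcyc.IsLTorsion L F) : EtAcyc.IsLTorsion L ((pull f).obj F) := by
  rw [isLTorsion_iff_stalk] at hF ⊢
  exact Etcore.Torsion.stalk_prop_pull _ f F hF

theorem isLTorsion_of_iso {X : Scheme.{u}} {L : Set ℕ} {F G : Ab X} (e : F ≅ G)
    (hF : EtAcyc.IsLTorsion L F) : EtAcyc.IsLTorsion L G := by
  rw [isLTorsion_iff_stalk] at hF ⊢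
  intro Ω _ _ ξ t
  let e' := ((EtCoh.stalk ξ).mapIso e).addCommGroupIsoToAddEquiv
  obtain ⟨n, hn, h⟩ := hF Ω ξ (e'.symm t)
  refine ⟨n, hn, ?_⟩
  rw [← map_nsmul] at h
  exact (AddEquiv.map_eq_zero_iff _).1 h

/-- Acyclicity of the map of strict localizations, from base change for `L`-torsion sheaves. -/
theorem isAcyclicN_of_bcAt {A : Type u} [CommRing A] [HenselianLocalRing A]
    [IsSepClosed (ResidueField A)] {X : Scheme.{u}} {f : X ⟶ Spec (CommRingCat.of A)}
    {B : Type u} [CommRing B] [IsLocalRing B] {τ : Spec (CommRingCat.of B) ⟶ X}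
    (hτ : IsStrictLoc τ) {β : A →+* B} [IsLocalHom β] (hβ : spm β = τ ≫ f) {L : Set ℕ}
    (hbc : ∀ (C : Type u) [CommRing C] (g : Spec (CommRingCat.of C) ⟶ Spec (CommRingCat.of A))
      (F : Ab (Spec (CommRingCat.of C))), EtAcyc.IsLTorsion L F → BCAt g F f) (n : ℕ) :
    EtAcyc.IsAcyclicN (spm β) L n := by
  intro V F hF _
  have key : ∀ q : ℕ, Function.Bijective (EtCore.Hpull (EtAcyc.prj (spm β) V) F q) := by
    intro q
    refine (Etcore.HpullCalc.bijective_Hpull_iff _ F q).2 ?_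
    exact inv_of_bcAt hτ hβ V.hom F
      (fun C _ _ σ _ => hbc C (σ ≫ V.hom) ((pull σ).obj F) (isLTorsion_pull σ hF)) q
  exact ⟨fun q _ => key q, (key (n + 1)).1⟩

/-- **Local acyclicity from base change**: if all base changes `f'` of `g : X ⟶ Y` to strict localizations
`Spec A ⟶ Y` satisfy base change for `L`-torsion sheaves on affine `Spec A`-schemes, then `g` is locally
acyclic for `L`. -/
theorem isLocAcyclic_of_bcAt {X Y : Scheme.{u}} (g : X ⟶ Y) (L : Set ℕ)
    (hbc : ∀ (A : Type u) [CommRing A] [IsLocalRing A] (σ : Spec (CommRingCat.of A) ⟶ Y),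
      IsStrictLoc σ → σ (closedPoint A) ∈ Set.range g →
      ∀ (X' : Scheme.{u}) (p : X' ⟶ X) (f : X' ⟶ Spec (CommRingCat.of A)), IsPullback p f g σ →
      ∀ (C : Type u) [CommRing C] (k : Spec (CommRingCat.of C) ⟶ Spec (CommRingCat.of A))
      (F : Ab (Spec (CommRingCat.of C))), EtAcyc.IsLTorsion L F → BCAt k F f) :
    EtAcyc.IsLocAcyclic g L := by
  intro n x RY RX _ _ _ _ _ _ hY _ _ hX _ _ hc
  have hσ : IsStrictLoc (Hens2.specOf Y (g x) RY) := isStrictLoc_specOf Y (g x) RY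
  have hτ : IsStrictLoc (Hens2.specOf X x RX) := isStrictLoc_specOf X x RX
  have := hσ.henselian
  have := hσ.sepClosed
  have hw : spm (algebraMap RY RX) ≫ Hens2.specOf Y (g x) RY = Hens2.specOf X x RX ≫ g :=
    (Groth.Agent.Etrest.VCBaseChange.specOf_comm g x RY RX (algebraMap RY RX)).1 hc
  let σ := Hens2.specOf Y (g x) RY
  let τ₀ : Spec (CommRingCat.of RX) ⟶ pullback g σ :=
    pullback.lift (Hens2.specOf X x RX) (spm (algebraMap RY RX)) hw.symm
  have hwe : WeaklyEtale σ := weaklyEtale_of_isStrictLoc hσ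
  have hτ₀ : IsStrictLoc τ₀ := IsStrictLoc.of_comp (pullback.fst g σ) (by
    rw [pullback.lift_fst]; exact hτ)
  refine isAcyclicN_of_bcAt (f := pullback.snd g σ) hτ₀ (β := algebraMap RY RX)
    (pullback.lift_snd _ _ _).symm (fun C _ k F hF => ?_) n
  exact hbc RY σ hσ ⟨x, (Groth.Agent.Etrest.VCBaseChange.specOf_closedPoint Y (g x) RY).symm⟩ _ _ _
    (IsPullback.of_hasPullback g σ) C k F hF

end Groth.Agent.Etbc.H195.LocAcycOfBC
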