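import Groth.Prelude.Def_Dix
import Groth.Prelude.Def_Coh
import Groth.Agent.S0458
import Mathlib.AlgebraicGeometry.Noetherian
import Mathlib.AlgebraicGeometry.Morphisms.FiniteType
import Mathlib.Algebra.CharP.Defs

/-!
# S3519 from S3494: `cd_p ≤ dim + 1` for schemes of finite type over a field of characteristic `p`
-/

set_option autoImplicit false
universe u
open CategoryTheory CategoryTheory.Limits AlgebraicGeometry Opposite TopologicalSpace

namespace Groth.Agent.Etbc.H195.CdpGlue

/-- The statement of S3494. -/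
def CdpLeCdqcStatement : Prop :=
  ∀ (p : ℕ) [Fact p.Prime] (X : Scheme.{u}) [IsNoetherian X]
    (_ : X ⟶ Spec (CommRingCat.of (ULift.{u} (ZMod p)))) (d : ℕ)
    (_ : ∀ M : X.Modules, Coh.IsQCoh M → ∀ q : ℕ, d < q → Subsingleton (Coh.HH X M q)),
    Dix.CohDimLEAt X p (d + 1)

/-- S3519 from S3494. -/
theorem cohDimLEAt_of_finiteType (H : CdpLeCdqcStatement.{u}) (k : Type u) [Field k] (p : ℕ)
    [Fact p.Prime] [CharP k p] (X : Scheme.{u}) (f : X ⟶ Spec (CommRingCat.of k))
    [LocallyOfFiniteType f] [QuasiCompact f] (n : ℕ) (hn : topologicalKrullDim X ≤ n) :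
    Dix.CohDimLEAt X p (n + 1) := by
  have h1 : IsLocallyNoetherian X := LocallyOfFiniteType.isLocallyNoetherian f
  have h2 : CompactSpace X := QuasiCompact.compactSpace_of_compactSpace f
  have h3 : IsNoetherian X := { }
  let φ : ULift.{u} (ZMod p) →+* k :=
    (ZMod.castHom (dvd_refl p) k).comp (ULift.ringEquiv (R := ZMod p)).toRingHom
  have : NoetherianSpace (X.toTopCat) := inferInstanceAs (NoetherianSpace X)
  exact H p X (f ≫ Spec.map (CommRingCat.ofHom φ)) n
    (fun M _ q hq => Groth.Agent.S0458.result (X := X.toTopCat) n hn (Coh.toAb M) q hq)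

end Groth.Agent.Etbc.H195.CdpGlue
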